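import Mathlib.Algebra.Polynomial.Laurent
import Mathlib.Algebra.Polynomial.Splits
import Mathlib.RingTheory.AdjoinRoot
import Mathlib.RingTheory.Polynomial.SeparableDegree
import Mathlib.RingTheory.MvPolynomial.Homogeneous
import Mathlib.Algebra.MvPolynomial.Funext
import Mathlib.RingTheory.GradedAlgebra.HomogeneousLocalization
import Mathlib.FieldTheory.Separable
import Mathlib.FieldTheory.Finite.Basic

/-!
# The affine conic left by removing a pair of conjugate points from the projective line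
-/

namespace Groth.Agent.PuncConic

open Polynomial LaurentPolynomial

universe u

theorem exists_of_isUnit {L : Type u} [CommRing L] [IsDomain L] {u : L[T;T⁻¹]} (hu : IsUnit u) :
    ∃ (c : L) (n : ℤ), c ≠ 0 ∧ u = LaurentPolynomial.C c * T n := by
  obtain ⟨w, hw⟩ := isUnit_iff_exists_inv.1 hu
  obtain ⟨n, f, hf⟩ := u.exists_T_pow
  obtain ⟨m, g, hg⟩ := w.exists_T_pow
  have h : f * g = Polynomial.X ^ (n + m) := by
    apply Polynomial.toLaurent_injective
    rw [map_mul, hf, hg, Polynomial.toLaurent_X_pow, Nat.cast_add, T_add]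
    rw [show u * T ↑n * (w * T ↑m) = (u * w) * (T ↑n * T ↑m) by ring, hw, one_mul]
  obtain ⟨k, -, v, hk⟩ := (dvd_prime_pow Polynomial.prime_X (n + m)).1 ⟨g, h.symm⟩
  obtain ⟨c, hc, hcv⟩ := Polynomial.isUnit_iff.1 (v⁻¹).isUnit
  refine ⟨c, (k : ℤ) - n, hc.ne_zero, ?_⟩
  have hf' : f = Polynomial.C c * Polynomial.X ^ k := by
    rw [hcv, ← hk, mul_comm, mul_assoc, Units.mul_inv, mul_one]
  have hu' : u = Polynomial.toLaurent f * T (-n) := by
    rw [hf, mul_assoc, ← T_add, add_neg_cancel, T_zero, mul_one]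
  rw [hu', hf', Polynomial.toLaurent_C_mul_X_pow, mul_assoc, ← T_add, sub_eq_add_neg]

theorem C_mul_T_inj {L : Type u} [CommRing L] {c c' : L} {n n' : ℤ} (hc : c ≠ 0)
    (h : LaurentPolynomial.C c * T n = LaurentPolynomial.C c' * T n') : c = c' ∧ n = n' := by
  rw [← single_eq_C_mul_T, ← single_eq_C_mul_T] at h
  rcases Finsupp.single_eq_single_iff _ _ _ _ |>.1 (congrArg AddMonoidAlgebra.coeff h) with ⟨h1, h2⟩ | ⟨h1, h2⟩
  · exact ⟨h2, h1⟩
  · exact absurd h1 hc

theorem infinite_of_rootsOfUnity (K : Type u) [Field K]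
    (hK : ∀ n : ℕ, 0 < n → (Polynomial.X ^ n - 1 : Polynomial K).Splits) : Infinite K := by
  classical
  refine ⟨fun hfin => ?_⟩
  haveI := Fintype.ofFinite K
  obtain ⟨N, hN, hp⟩ := Nat.exists_infinite_primes (Fintype.card K + 1)
  have hN0 : (N : K) ≠ 0 := by
    intro h0
    have hd := (ringChar.spec K N).1 h0
    rcases hp.eq_one_or_self_of_dvd _ hd with h1 | h1
    · exact CharP.ringChar_ne_one h1
    · have h2 : Fintype.card K = 0 ∨ ringChar K ≤ Fintype.card K := by
        obtain ⟨k, hpr, hcard⟩ := FiniteField.card K (ringChar K)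
        right
        rw [hcard]
        exact Nat.le_self_pow k.pos.ne' _
      have := Fintype.card_pos (α := K)
      omega
  have hsep : (Polynomial.X ^ N - Polynomial.C (1 : K)).Separable :=
    Polynomial.separable_X_pow_sub_C 1 hN0 one_ne_zero
  rw [map_one] at hsep
  have hcard : (Polynomial.X ^ N - 1 : Polynomial K).roots.toFinset.card = N := by
    rw [Multiset.toFinset_card_of_nodup (Polynomial.nodup_roots hsep),
      ← (hK N hp.pos).natDegree_eq_card_roots, ← map_one (Polynomial.C (R := K)),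
      Polynomial.natDegree_X_pow_sub_C]
  have := Finset.card_le_univ (Polynomial.X ^ N - 1 : Polynomial K).roots.toFinset
  omega

/-- The data of a monic separable irreducible quadratic `X² - sX + p`. -/
structure Quad (K : Type u) [Field K] where
  s : K
  p : K
  irr : Irreducible (Polynomial.X ^ 2 - Polynomial.C s * Polynomial.X + Polynomial.C p)
  sep : s ^ 2 - 4 * p ≠ 0

variable {K : Type u} [Field K] (Q : Quad K)

/-- The defining polynomial. -/
noncomputable def Quad.f : K[X] := Polynomial.X ^ 2 - Polynomial.C Q.s * Polynomial.X + Polynomial.C Q.p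

instance : Fact (Irreducible Q.f) := ⟨Q.irr⟩

/-- The splitting field. -/
abbrev Quad.L : Type u := AdjoinRoot Q.f

/-- A root. -/
noncomputable def Quad.θ : Q.L := AdjoinRoot.root Q.f

/-- The other root. -/
noncomputable def Quad.θ' : Q.L := algebraMap K Q.L Q.s - Q.θ

theorem θ_sq : Q.θ ^ 2 = algebraMap K Q.L Q.s * Q.θ - algebraMap K Q.L Q.p := by
  have h : Polynomial.aeval Q.θ
      (Polynomial.X ^ 2 - Polynomial.C Q.s * Polynomial.X + Polynomial.C Q.p) = 0 := by
    show Polynomial.aeval Q.θ Q.f = 0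
    rw [Quad.θ, AdjoinRoot.aeval_eq, AdjoinRoot.mk_self]
  rw [map_add, map_sub, map_pow, map_mul, Polynomial.aeval_X, Polynomial.aeval_C, Polynomial.aeval_C] at h
  linear_combination h

/-- Conjugation. -/
noncomputable def Quad.conj : Q.L →ₐ[K] Q.L :=
  AdjoinRoot.liftAlgHom Q.f (Algebra.ofId K Q.L) Q.θ' (by
    show Polynomial.aeval Q.θ'
      (Polynomial.X ^ 2 - Polynomial.C Q.s * Polynomial.X + Polynomial.C Q.p) = 0
    rw [map_add, map_sub, map_pow, map_mul, Polynomial.aeval_X, Polynomial.aeval_C, Polynomial.aeval_C,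
      Quad.θ']
    linear_combination θ_sq Q)

theorem conj_θ : Q.conj Q.θ = Q.θ' := AdjoinRoot.liftAlgHom_root ..

theorem conj_θ' : Q.conj Q.θ' = Q.θ := by
  rw [Quad.θ', map_sub, AlgHom.commutes, conj_θ, Quad.θ']; ring

theorem θ'_ne_θ : Q.θ' - Q.θ ≠ 0 := by
  intro h
  apply Q.sep
  apply (algebraMap K Q.L).injective
  rw [map_zero, map_sub, map_pow, map_mul, map_ofNat]
  rw [Quad.θ'] at h
  linear_combination (algebraMap K Q.L Q.s - Q.θ - Q.θ) * h + (-4 : Q.L) * θ_sq Q

/-- `1 / (θ' - θ)`. -/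
noncomputable def Quad.δ : Q.L := (Q.θ' - Q.θ)⁻¹

theorem conj_δ : Q.conj Q.δ = -Q.δ := by
  rw [Quad.δ, map_inv₀, map_sub, conj_θ, conj_θ', ← neg_sub Q.θ' Q.θ, inv_neg]

/-- The substitution `X - θY ↦ T`, `X - θ'Y ↦ 1`. -/
noncomputable def Quad.ψ : MvPolynomial (Fin 2) K →+* Q.L[T;T⁻¹] :=
  MvPolynomial.eval₂Hom ((LaurentPolynomial.C).comp (algebraMap K Q.L))
    ![LaurentPolynomial.C Q.δ * (LaurentPolynomial.C Q.θ' * T 1 - LaurentPolynomial.C Q.θ),
      LaurentPolynomial.C Q.δ * (T 1 - 1)]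

theorem ψ_C (k : K) : Q.ψ (MvPolynomial.C k) = LaurentPolynomial.C (algebraMap K Q.L k) :=
  MvPolynomial.eval₂Hom_C ..

theorem ψ_X0 : Q.ψ (MvPolynomial.X 0) =
    LaurentPolynomial.C Q.δ * (LaurentPolynomial.C Q.θ' * T 1 - LaurentPolynomial.C Q.θ) :=
  MvPolynomial.eval₂Hom_X' ..

theorem ψ_X1 : Q.ψ (MvPolynomial.X 1) = LaurentPolynomial.C Q.δ * (T 1 - 1) :=
  MvPolynomial.eval₂Hom_X' ..

theorem ψ_line (x : Q.L) (hx : x = Q.θ ∨ x = Q.θ') :
    Q.ψ (MvPolynomial.X 0) - LaurentPolynomial.C x * Q.ψ (MvPolynomial.X 1) =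
      if x = Q.θ then T 1 else 1 := by
  have hδ : LaurentPolynomial.C Q.δ * (LaurentPolynomial.C Q.θ' - LaurentPolynomial.C Q.θ) = 1 := by
    rw [← map_sub, ← map_mul, Quad.δ, inv_mul_cancel₀ (θ'_ne_θ Q), map_one]
  rw [ψ_X0, ψ_X1]
  rcases hx with rfl | rfl
  · rw [if_pos rfl]
    linear_combination (T 1 : Q.L[T;T⁻¹]) * hδ
  · rw [if_neg fun h => θ'_ne_θ Q (by rw [h, sub_self])]
    linear_combination hδ

/-- The form. -/
noncomputable def Quad.form : MvPolynomial (Fin 2) K :=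
  MvPolynomial.X 0 ^ 2 - MvPolynomial.C Q.s * MvPolynomial.X 0 * MvPolynomial.X 1
    + MvPolynomial.C Q.p * MvPolynomial.X 1 ^ 2

theorem ψ_form : Q.ψ Q.form = T 1 := by
  have h1 := ψ_line Q Q.θ (Or.inl rfl)
  have h2 := ψ_line Q Q.θ' (Or.inr rfl)
  rw [if_pos rfl] at h1
  rw [if_neg fun h => θ'_ne_θ Q (by rw [h, sub_self])] at h2
  have hs : LaurentPolynomial.C (algebraMap K Q.L Q.s) = LaurentPolynomial.C Q.θ + LaurentPolynomial.C Q.θ' := by
    rw [← map_add, Quad.θ', add_sub_cancel]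
  have hp : LaurentPolynomial.C (algebraMap K Q.L Q.p) = LaurentPolynomial.C Q.θ * LaurentPolynomial.C Q.θ' := by
    rw [← map_mul, Quad.θ']
    congr 1
    linear_combination θ_sq Q
  rw [Quad.form, map_add, map_sub, map_mul, map_mul, map_mul, map_pow, map_pow, ψ_C, ψ_C, hs, hp,
    ← h1]
  rw [show ∀ a b c : Q.L[T;T⁻¹], a - b + c = a - b + c from fun _ _ _ => rfl]
  linear_combination (Q.ψ (MvPolynomial.X 0) - LaurentPolynomial.C Q.θ * Q.ψ (MvPolynomial.X 1)) * h2

/-- The semilinear involution `T ↦ 1/T`. -/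
noncomputable def Quad.σ : Q.L[T;T⁻¹] →+* Q.L[T;T⁻¹] :=
  LaurentPolynomial.eval₂ ((LaurentPolynomial.C).comp Q.conj.toRingHom)
    ⟨T (-1), T 1, by rw [← T_add]; rfl, by rw [← T_add]; rfl⟩

theorem σ_C (x : Q.L) : Q.σ (LaurentPolynomial.C x) = LaurentPolynomial.C (Q.conj x) :=
  LaurentPolynomial.eval₂_C ..

theorem σ_T1 : Q.σ (T 1) = T (-1) := by
  rw [Quad.σ, LaurentPolynomial.eval₂_T, zpow_one]

theorem σ_T (n : ℤ) : Q.σ (T n) = T (-n) := by
  rw [Quad.σ, LaurentPolynomial.eval₂_T]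
  induction n using Int.induction_on with
  | zero => simp
  | succ m ih =>
    rw [zpow_add_one, Units.val_mul, ih, ← T_add]
    congr 1; ring
  | pred m ih =>
    rw [zpow_sub_one, Units.val_mul, ih]
    show T _ * T 1 = _
    rw [← T_add]; congr 1; ring

theorem σ_ψ_X (i : Fin 2) : Q.σ (Q.ψ (MvPolynomial.X i)) = Q.ψ (MvPolynomial.X i) * T (-1) := by
  have ht : (T 1 : Q.L[T;T⁻¹]) * T (-1) = 1 := by rw [← T_add]; rfl
  fin_cases i
  · show Q.σ (Q.ψ (MvPolynomial.X 0)) = Q.ψ (MvPolynomial.X 0) * T (-1)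
    rw [ψ_X0, map_mul, map_sub, map_mul, σ_C, σ_C, σ_C, σ_T1, conj_δ, conj_θ, conj_θ', map_neg]
    linear_combination -(LaurentPolynomial.C Q.δ * LaurentPolynomial.C Q.θ') * ht
  · show Q.σ (Q.ψ (MvPolynomial.X 1)) = Q.ψ (MvPolynomial.X 1) * T (-1)
    rw [ψ_X1, map_mul, map_sub, map_one, σ_C, σ_T1, conj_δ, map_neg]
    linear_combination -(LaurentPolynomial.C Q.δ) * ht

theorem σ_ψ {f : MvPolynomial (Fin 2) K} {N : ℕ} (hf : f.IsHomogeneous N) :
    Q.σ (Q.ψ f) = Q.ψ f * T (-1) ^ N := by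
  rw [f.as_sum, map_sum, map_sum, Finset.sum_mul]
  refine Finset.sum_congr rfl fun x hx => ?_
  have hdeg : ∑ i ∈ x.support, x i = N := by
    have := hf (MvPolynomial.mem_support_iff.1 hx)
    simpa [Finsupp.weight_apply, Finsupp.sum] using this
  rw [MvPolynomial.monomial_eq, map_mul, map_mul, ψ_C, σ_C, AlgHom.commutes, Finsupp.prod, map_prod, map_prod]
  simp only [map_pow, σ_ψ_X, mul_pow, Finset.prod_mul_distrib, Finset.prod_pow_eq_pow_sum, hdeg]
  rw [mul_assoc]

theorem ψ_injective [Infinite K] {f : MvPolynomial (Fin 2) K} {N : ℕ} (hf : f.IsHomogeneous N)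
    (h : Q.ψ f = 0) : f = 0 := by
  classical
  haveI : Infinite Q.L := Infinite.of_injective _ (algebraMap K Q.L).injective
  let g : MvPolynomial (Fin 2) Q.L := MvPolynomial.map (algebraMap K Q.L) f
  have hg : g.IsHomogeneous N := hf.map _
  let ℓ : MvPolynomial (Fin 2) Q.L := MvPolynomial.X 0 - MvPolynomial.C Q.θ * MvPolynomial.X 1
  let ℓ' : MvPolynomial (Fin 2) Q.L := MvPolynomial.X 0 - MvPolynomial.C Q.θ' * MvPolynomial.X 1
  have hne : ∀ c : Q.L, (MvPolynomial.X 0 - MvPolynomial.C c * MvPolynomial.X 1 : MvPolynomial (Fin 2) Q.L) ≠ 0 :=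
    fun c h0 => by
      have := congrArg (MvPolynomial.eval ![1, 0]) h0
      simp at this
  have hprod : ℓ * ℓ' * g = 0 := by
    refine MvPolynomial.funext fun v => ?_
    rw [map_zero, map_mul, map_mul]
    by_cases h1 : MvPolynomial.eval v ℓ' = 0
    · rw [h1]; ring
    by_cases h2 : MvPolynomial.eval v ℓ = 0
    · rw [h2]; ring
    let r := MvPolynomial.eval v ℓ'
    let t := MvPolynomial.eval v ℓ / r
    have ht : t ≠ 0 := div_ne_zero h2 h1
    let ev : Q.L[T;T⁻¹] →+* Q.L := LaurentPolynomial.eval₂ (RingHom.id _) (Units.mk0 t ht)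
    have hev : ev.comp Q.ψ = (MvPolynomial.eval fun i => r⁻¹ * v i).comp (MvPolynomial.map (algebraMap K Q.L)) := by
      refine MvPolynomial.ringHom_ext (fun k => ?_) fun i => ?_
      · simp [ev, ψ_C]
      · have hT : ev (T 1) = t := by simp [ev, LaurentPolynomial.eval₂_T]
        have hC : ∀ x, ev (LaurentPolynomial.C x) = x := fun x => by simp [ev]
        have hd : Q.δ * (Q.θ' - Q.θ) = 1 := inv_mul_cancel₀ (θ'_ne_θ Q)
        have hr : r ≠ 0 := h1
        have hr' : v 0 - Q.θ' * v 1 = r := by simp [r, ℓ']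
        have htr : t * r = v 0 - Q.θ * v 1 := by
          rw [div_mul_cancel₀ _ hr]; simp [ℓ]
        fin_cases i
        · show ev (Q.ψ (MvPolynomial.X 0)) = MvPolynomial.eval (fun i => r⁻¹ * v i) (MvPolynomial.map _ (MvPolynomial.X 0))
          rw [ψ_X0, MvPolynomial.map_X, MvPolynomial.eval_X, map_mul, map_sub, map_mul, hT, hC, hC, hC]
          field_simp
          linear_combination Q.δ * Q.θ' * htr + Q.δ * Q.θ * hr' + v 0 * hd
        · show ev (Q.ψ (MvPolynomial.X 1)) = MvPolynomial.eval (fun i => r⁻¹ * v i) (MvPolynomial.map _ (MvPolynomial.X 1))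
          rw [ψ_X1, MvPolynomial.map_X, MvPolynomial.eval_X, map_mul, map_sub, map_one, hT, hC]
          field_simp
          linear_combination Q.δ * htr + Q.δ * hr' + v 1 * hd
    have h3 := DFunLike.congr_fun hev f
    rw [RingHom.comp_apply, h, map_zero] at h3
    have h4 : MvPolynomial.eval (fun i => r⁻¹ * v i) g = r⁻¹ ^ N * MvPolynomial.eval v g := by
      rw [g.as_sum, map_sum, map_sum, Finset.mul_sum]
      refine Finset.sum_congr rfl fun x hx => ?_
      have hdeg : ∑ i ∈ x.support, x i = N := by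
        have := hg (MvPolynomial.mem_support_iff.1 hx)
        simpa [Finsupp.weight_apply, Finsupp.sum] using this
      rw [MvPolynomial.eval_monomial, MvPolynomial.eval_monomial, Finsupp.prod, Finsupp.prod]
      simp only [mul_pow, Finset.prod_mul_distrib, Finset.prod_pow_eq_pow_sum, hdeg]
      ring
    rw [RingHom.comp_apply] at h3
    have h5 : MvPolynomial.eval v g = 0 :=
      (mul_eq_zero.1 (h4.symm.trans h3.symm)).resolve_left (pow_ne_zero _ (inv_ne_zero h1))
    rw [h5, mul_zero]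
  have hg0 : g = 0 := (mul_eq_zero.1 hprod).resolve_left (mul_ne_zero (hne _) (hne _))
  exact MvPolynomial.map_injective _ (algebraMap K Q.L).injective (by rw [map_zero]; exact hg0)

end Groth.Agent.PuncConic
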