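import Groth.Agent.Lib.PuncConic.Basic
import Mathlib.GroupTheory.OrderOfElement
import Mathlib.Algebra.Polynomial.SpecificDegree
import Mathlib.RingTheory.Localization.Away.Basic

/-!
# Finite automorphism groups of the punctured line
-/

namespace Groth.Agent.PuncConic

open Polynomial LaurentPolynomial

universe u

variable {K : Type u} [Field K] (Q : Quad K) {R : Type u} [CommRing R] [SMul K R]

/-- A presentation of `R` as the fixed ring of `σ`. -/
structure Frame (R : Type u) [CommRing R] [SMul K R] where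
  φ : R →+* Q.L[T;T⁻¹]
  inj : Function.Injective φ
  fixed : ∀ z, Q.σ (φ z) = φ z
  scalar : ∀ k : K, φ (k • (1 : R)) = LaurentPolynomial.C (algebraMap K Q.L k)
  hT : ∃ u v, T 1 = φ u + LaurentPolynomial.C Q.θ * φ v
  hT' : ∃ u v, T (-1) = φ u + LaurentPolynomial.C Q.θ * φ v

variable {Q}

theorem Frame.unique (F : Frame Q R) {u v u' v' : R}
    (h : F.φ u + LaurentPolynomial.C Q.θ * F.φ v = F.φ u' + LaurentPolynomial.C Q.θ * F.φ v') :
    u = u' ∧ v = v' := by
  have h2 := congrArg Q.σ h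
  rw [map_add, map_add, map_mul, map_mul, F.fixed, F.fixed, F.fixed, F.fixed, σ_C, conj_θ] at h2
  have hδ : LaurentPolynomial.C Q.δ * (LaurentPolynomial.C Q.θ' - LaurentPolynomial.C Q.θ) = 1 := by
    rw [← map_sub, ← map_mul, Quad.δ, inv_mul_cancel₀ (θ'_ne_θ Q), map_one]
  have hv : F.φ v = F.φ v' := by
    linear_combination (LaurentPolynomial.C Q.δ) * h2 - (LaurentPolynomial.C Q.δ) * h
      + (F.φ v' - F.φ v) * hδ
  refine ⟨F.inj ?_, F.inj hv⟩
  rw [hv] at h
  exact add_right_cancel h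

theorem θ_sq_C : (LaurentPolynomial.C Q.θ : Q.L[T;T⁻¹]) * LaurentPolynomial.C Q.θ =
    LaurentPolynomial.C (algebraMap K Q.L Q.s) * LaurentPolynomial.C Q.θ
      - LaurentPolynomial.C (algebraMap K Q.L Q.p) := by
  rw [← map_mul, ← pow_two, θ_sq, map_sub, map_mul]

theorem Frame.exists_rep (F : Frame Q R) (w : Q.L[T;T⁻¹]) :
    ∃ u v, w = F.φ u + LaurentPolynomial.C Q.θ * F.φ v := by
  let S : Subring Q.L[T;T⁻¹] :=
    { carrier := {w | ∃ u v, w = F.φ u + LaurentPolynomial.C Q.θ * F.φ v}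
      zero_mem' := ⟨0, 0, by rw [map_zero]; ring⟩
      one_mem' := ⟨1, 0, by rw [map_zero, map_one]; ring⟩
      add_mem' := by
        rintro _ _ ⟨u, v, rfl⟩ ⟨u', v', rfl⟩
        exact ⟨u + u', v + v', by rw [map_add, map_add]; ring⟩
      neg_mem' := by
        rintro _ ⟨u, v, rfl⟩
        exact ⟨-u, -v, by rw [map_neg, map_neg]; ring⟩
      mul_mem' := by
        rintro _ _ ⟨u, v, rfl⟩ ⟨u', v', rfl⟩
        refine ⟨u * u' - (Q.p • (1 : R)) * (v * v'), u * v' + v * u' + (Q.s • (1 : R)) * (v * v'), ?_⟩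
        simp only [map_add, map_sub, map_mul, F.scalar]
        linear_combination (F.φ v * F.φ v') * θ_sq_C (Q := Q) }
  have hθ : LaurentPolynomial.C Q.θ ∈ S := ⟨0, 1, by rw [map_zero, map_one]; ring⟩
  have hK : ∀ k, LaurentPolynomial.C (algebraMap K Q.L k) ∈ S :=
    fun k => ⟨k • (1 : R), 0, by rw [map_zero, F.scalar]; ring⟩
  have hC : ∀ x : Q.L, LaurentPolynomial.C x ∈ S := fun x => by
    induction x using AdjoinRoot.induction_on with
    | ih g =>
      rw [← AdjoinRoot.aeval_eq]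
      show LaurentPolynomial.C (Polynomial.aeval Q.θ g) ∈ S
      induction g using Polynomial.induction_on' with
      | add a b ha hb => rw [map_add, map_add]; exact add_mem ha hb
      | monomial n a =>
        rw [Polynomial.aeval_monomial, map_mul, map_pow]
        exact mul_mem (hK a) (pow_mem hθ n)
  show w ∈ S
  induction w using LaurentPolynomial.induction_on' with
  | add a b ha hb => exact add_mem ha hb
  | C_mul_T n a =>
    refine mul_mem (hC a) ?_
    obtain ⟨m, rfl | rfl⟩ := Int.eq_nat_or_neg n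
    · rw [show (T (m : ℤ) : Q.L[T;T⁻¹]) = T 1 ^ m by rw [T_pow, mul_one]]
      exact pow_mem F.hT m
    · rw [show (T (-(m : ℤ)) : Q.L[T;T⁻¹]) = T (-1) ^ m by rw [T_pow, mul_neg_one]]
      exact pow_mem F.hT' m

/-- The first coordinate. -/
noncomputable def Frame.c0 (F : Frame Q R) (w : Q.L[T;T⁻¹]) : R := (F.exists_rep w).choose

/-- The second coordinate. -/
noncomputable def Frame.c1 (F : Frame Q R) (w : Q.L[T;T⁻¹]) : R := (F.exists_rep w).choose_spec.choose

/-- Extension of an endomorphism to the split ring. -/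
noncomputable def Frame.extFun (F : Frame Q R) (e : R →+* R) (w : Q.L[T;T⁻¹]) : Q.L[T;T⁻¹] :=
  F.φ (e (F.c0 w)) + LaurentPolynomial.C Q.θ * F.φ (e (F.c1 w))

theorem Frame.extFun_rep (F : Frame Q R) (e : R →+* R) (u v : R) :
    F.extFun e (F.φ u + LaurentPolynomial.C Q.θ * F.φ v)
      = F.φ (e u) + LaurentPolynomial.C Q.θ * F.φ (e v) := by
  obtain ⟨h1, h2⟩ := F.unique (u' := F.c0 (F.φ u + LaurentPolynomial.C Q.θ * F.φ v))
    (v' := F.c1 (F.φ u + LaurentPolynomial.C Q.θ * F.φ v))
    (F.exists_rep (F.φ u + LaurentPolynomial.C Q.θ * F.φ v)).choose_spec.choose_spec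
  rw [Frame.extFun, ← h1, ← h2]

/-- The extension as a ring endomorphism. -/
noncomputable def Frame.ext (F : Frame Q R) (e : R →+* R) (he : ∀ k : K, e (k • (1 : R)) = k • (1 : R)) :
    Q.L[T;T⁻¹] →+* Q.L[T;T⁻¹] where
  toFun := F.extFun e
  map_one' := by
    have h := F.extFun_rep e 1 0
    simpa using h
  map_zero' := by
    have h := F.extFun_rep e 0 0
    simpa using h
  map_add' := fun a b => by
    obtain ⟨u, v, rfl⟩ := F.exists_rep a
    obtain ⟨u', v', rfl⟩ := F.exists_rep b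
    rw [show F.φ u + LaurentPolynomial.C Q.θ * F.φ v + (F.φ u' + LaurentPolynomial.C Q.θ * F.φ v')
      = F.φ (u + u') + LaurentPolynomial.C Q.θ * F.φ (v + v') by rw [map_add, map_add]; ring,
      F.extFun_rep, F.extFun_rep, F.extFun_rep, map_add, map_add, map_add, map_add]
    ring
  map_mul' := fun a b => by
    obtain ⟨u, v, rfl⟩ := F.exists_rep a
    obtain ⟨u', v', rfl⟩ := F.exists_rep b
    rw [show (F.φ u + LaurentPolynomial.C Q.θ * F.φ v) * (F.φ u' + LaurentPolynomial.C Q.θ * F.φ v')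
      = F.φ (u * u' - (Q.p • (1 : R)) * (v * v'))
        + LaurentPolynomial.C Q.θ * F.φ (u * v' + v * u' + (Q.s • (1 : R)) * (v * v')) by
        simp only [map_add, map_sub, map_mul, F.scalar]
        linear_combination (F.φ v * F.φ v') * θ_sq_C (Q := Q),
      F.extFun_rep, F.extFun_rep, F.extFun_rep]
    simp only [map_add, map_sub, map_mul, he, F.scalar]
    linear_combination -(F.φ (e v) * F.φ (e v')) * θ_sq_C (Q := Q)

theorem Frame.ext_rep (F : Frame Q R) (e : R →+* R) (he) (u v : R) :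
    F.ext e he (F.φ u + LaurentPolynomial.C Q.θ * F.φ v)
      = F.φ (e u) + LaurentPolynomial.C Q.θ * F.φ (e v) := F.extFun_rep e u v

theorem Frame.ext_φ (F : Frame Q R) (e : R →+* R) (he) (u : R) : F.ext e he (F.φ u) = F.φ (e u) := by
  have h := F.ext_rep e he u 0
  simpa using h

theorem Frame.ext_C (F : Frame Q R) (e : R →+* R) (he) (x : Q.L) :
    F.ext e he (LaurentPolynomial.C x) = LaurentPolynomial.C x := by
  have hθ : F.ext e he (LaurentPolynomial.C Q.θ) = LaurentPolynomial.C Q.θ := by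
    have h := F.ext_rep e he 0 1
    simpa using h
  induction x using AdjoinRoot.induction_on with
  | ih g =>
    rw [← AdjoinRoot.aeval_eq]
    show F.ext e he (LaurentPolynomial.C (Polynomial.aeval Q.θ g)) = LaurentPolynomial.C (Polynomial.aeval Q.θ g)
    induction g using Polynomial.induction_on' with
    | add a b ha hb => rw [map_add, map_add, map_add, ha, hb]
    | monomial n a =>
      rw [Polynomial.aeval_monomial, map_mul, map_pow, map_mul, map_pow, hθ, ← F.scalar, F.ext_φ, he]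

theorem Frame.σ_ext (F : Frame Q R) (e : R →+* R) (he) (w : Q.L[T;T⁻¹]) :
    Q.σ (F.ext e he w) = F.ext e he (Q.σ w) := by
  obtain ⟨u, v, rfl⟩ := F.exists_rep w
  rw [map_add Q.σ, map_mul Q.σ, F.fixed, F.fixed, σ_C, map_add (F.ext e he), map_mul (F.ext e he),
    map_add (F.ext e he), map_mul (F.ext e he), F.ext_C, F.ext_C, map_add Q.σ, map_mul Q.σ,
    F.ext_φ, F.ext_φ, F.fixed, F.fixed, σ_C]

theorem hom_T_pow {L : Type u} [Field L] (h : L[T;T⁻¹] →+* L[T;T⁻¹])
    (hC : ∀ x, h (LaurentPolynomial.C x) = LaurentPolynomial.C x) {c : L} {m : ℤ} (hc : c ≠ 0)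
    (hT : h (T 1) = LaurentPolynomial.C c * T m) (k : ℤ) :
    h (T k) = LaurentPolynomial.C (c ^ k) * T (m * k) := by
  have hnat : ∀ j : ℕ, h (T (j : ℤ)) = LaurentPolynomial.C (c ^ j) * T (m * j) := fun j => by
    rw [show (T (j : ℤ) : L[T;T⁻¹]) = T 1 ^ j by rw [T_pow, mul_one], map_pow, hT, mul_pow, map_pow,
      T_pow, mul_comm m]
  obtain ⟨j, rfl | rfl⟩ := Int.eq_nat_or_neg k
  · rw [hnat j, zpow_natCast]
  · have h1 : h (T (-(j : ℤ))) * h (T (j : ℤ)) = 1 := by
      rw [← map_mul, ← T_add, neg_add_cancel, T_zero, map_one]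
    have h2 : (LaurentPolynomial.C (c ^ (-(j : ℤ))) * T (m * -(j : ℤ))) * h (T (j : ℤ)) = 1 := by
      rw [hnat j, mul_mul_mul_comm, ← map_mul, ← T_add, ← zpow_natCast c j, ← zpow_add₀ hc,
        neg_add_cancel, zpow_zero, map_one, one_mul, mul_neg, neg_add_cancel, T_zero]
    calc h (T (-(j : ℤ))) = h (T (-(j : ℤ))) * ((LaurentPolynomial.C (c ^ (-(j : ℤ))) * T (m * -(j : ℤ)))
          * h (T (j : ℤ))) := by rw [h2, mul_one]
      _ = _ := by rw [mul_comm (LaurentPolynomial.C _ * T _) (h _), ← mul_assoc, h1, one_mul]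

theorem eq_of_splits {L : Type u} [Field L] [Algebra K L] {m : ℕ} (hm : 0 < m)
    (hK : (Polynomial.X ^ m - 1 : Polynomial K).Splits) {c : L} (hc : c ^ m = 1) :
    ∃ k : K, algebraMap K L k = c := by
  have hne : (Polynomial.X ^ m - 1 : Polynomial K) ≠ 0 := by
    rw [← map_one Polynomial.C]; exact Polynomial.X_pow_sub_C_ne_zero hm _
  have h0 : Polynomial.aeval c (Polynomial.X ^ m - 1 : Polynomial K) = 0 := by
    rw [map_sub, map_pow, map_one, Polynomial.aeval_X, hc, sub_self]
  rw [hK.eq_prod_roots, map_mul, Polynomial.aeval_C, map_multiset_prod, mul_eq_zero] at h0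
  rcases h0 with h0 | h0
  · exact absurd ((map_eq_zero _).1 h0) (Polynomial.leadingCoeff_ne_zero.2 hne)
  · rw [Multiset.prod_eq_zero_iff, Multiset.map_map, Multiset.mem_map] at h0
    obtain ⟨k, -, hk⟩ := h0
    exact ⟨k, (sub_eq_zero.1 (by simpa using hk)).symm⟩

section Group

variable (F : Frame Q R) (G : Subgroup (R ≃+* R))
variable (hG : ∀ g ∈ G, ∀ (k : K) (z : R), g (k • z) = k • g z)

include hG in
theorem scalar_fix (g : G) (k : K) : (g.1 : R →+* R) (k • (1 : R)) = k • (1 : R) := by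
  show g.1 (k • (1 : R)) = _
  rw [hG g.1 g.2, map_one]

/-- The action of `G` on the split ring. -/
noncomputable def Frame.act : G →* (Q.L[T;T⁻¹] →+* Q.L[T;T⁻¹]) where
  toFun g := F.ext (g.1 : R →+* R) (scalar_fix G hG g)
  map_one' := RingHom.ext fun w => by
    obtain ⟨u, v, rfl⟩ := F.exists_rep w
    rw [F.ext_rep]; rfl
  map_mul' := fun g g' => RingHom.ext fun w => by
    obtain ⟨u, v, rfl⟩ := F.exists_rep w
    rw [RingHom.mul_def, RingHom.comp_apply, F.ext_rep, F.ext_rep, F.ext_rep]; rfl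

theorem Frame.act_C (g : G) (x : Q.L) :
    F.act G hG g (LaurentPolynomial.C x) = LaurentPolynomial.C x := F.ext_C _ (scalar_fix G hG g) x

theorem Frame.act_inj {g g' : G} (h : F.act G hG g (T 1) = F.act G hG g' (T 1)) : g = g' := by
  obtain ⟨c, n, hc, hT⟩ := exists_of_isUnit ((isUnit_T (R := Q.L) 1).map (F.act G hG g))
  have e : F.act G hG g = F.act G hG g' := RingHom.ext fun w => by
    induction w using LaurentPolynomial.induction_on' with
    | add a b ha hb => rw [map_add, map_add, ha, hb]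
    | C_mul_T k a =>
      rw [map_mul, map_mul, F.act_C, F.act_C, hom_T_pow _ (F.act_C G hG g) hc hT k,
        hom_T_pow _ (F.act_C G hG g') hc (h ▸ hT) k]
  refine Subtype.ext (RingEquiv.ext fun z => F.inj ?_)
  have h1 := DFunLike.congr_fun e (F.φ z)
  simp only [Frame.act, MonoidHom.coe_mk, OneHom.coe_mk, F.ext_φ] at h1
  exact h1

theorem Frame.act_cases [Finite G] (hK : ∀ n : ℕ, 0 < n → (Polynomial.X ^ n - 1 : Polynomial K).Splits)
    (g : G) : ∃ c : Q.L, c ≠ 0 ∧
      ((F.act G hG g (T 1) = LaurentPolynomial.C c * T 1 ∧ (c = 1 ∨ c = -1)) ∨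
        F.act G hG g (T 1) = LaurentPolynomial.C c * T (-1)) := by
  have key : ∀ a b : G, ∀ {c : Q.L} {n : ℤ}, c ≠ 0 → F.act G hG b (T 1) = LaurentPolynomial.C c * T n →
      ∀ {d : Q.L} {m : ℤ}, d ≠ 0 → F.act G hG a (T 1) = LaurentPolynomial.C d * T m →
      F.act G hG (a * b) (T 1) = LaurentPolynomial.C (c * d ^ n) * T (m * n) := by
    intro a b c n hc hb d m hd ha
    rw [map_mul, RingHom.mul_def, RingHom.comp_apply, hb, map_mul, F.act_C,
      hom_T_pow _ (F.act_C G hG a) hd ha n, ← mul_assoc, ← map_mul]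
  obtain ⟨c, n, hc, hT⟩ := exists_of_isUnit ((isUnit_T (R := Q.L) 1).map (F.act G hG g))
  obtain ⟨c', n', hc', hT'⟩ := exists_of_isUnit ((isUnit_T (R := Q.L) 1).map (F.act G hG g⁻¹))
  have h1 := key g⁻¹ g hc hT hc' hT'
  rw [inv_mul_cancel, map_one, RingHom.one_def, RingHom.id_apply] at h1
  have h2 := C_mul_T_inj (L := Q.L) (c := 1) one_ne_zero ((show LaurentPolynomial.C (1 : Q.L) * T 1 = T 1 by rw [map_one, one_mul]).trans h1)
  refine ⟨c, hc, ?_⟩
  rcases Int.eq_one_or_neg_one_of_mul_eq_one (u := n) (v := n') (by rw [mul_comm]; exact h2.2.symm) with rfl | rfl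
  · left
    refine ⟨hT, ?_⟩
    have hp : ∀ j : ℕ, F.act G hG (g ^ j) (T 1) = LaurentPolynomial.C (c ^ j) * T 1 := fun j => by
      induction j with
      | zero => simp [RingHom.one_def]
      | succ j ih =>
        rw [pow_succ, key _ _ hc hT (pow_ne_zero _ hc) ih, zpow_one, mul_one, ← pow_succ']
    have hm := hp (orderOf g)
    rw [pow_orderOf_eq_one, map_one, RingHom.one_def, RingHom.id_apply] at hm
    have hm' := C_mul_T_inj (L := Q.L) (c := 1) one_ne_zero ((show LaurentPolynomial.C (1 : Q.L) * T 1 = T 1 by rw [map_one, one_mul]).trans hm)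
    have hpos : 0 < orderOf g := orderOf_pos g
    obtain ⟨k, hk⟩ := eq_of_splits (L := Q.L) hpos (hK _ hpos) hm'.1.symm
    have hs := F.σ_ext (g.1 : R →+* R) (scalar_fix G hG g) (T 1)
    change Q.σ (F.act G hG g (T 1)) = F.act G hG g (Q.σ (T 1)) at hs
    rw [hT, σ_T1, map_mul Q.σ, σ_C, σ_T1, hom_T_pow _ (F.act_C G hG g) hc hT (-1), one_mul] at hs
    have hne : Q.conj c ≠ 0 := by rw [← hk, AlgHom.commutes, hk]; exact hc
    have hcc := (C_mul_T_inj hne hs).1
    rw [← hk, AlgHom.commutes, hk, zpow_neg_one] at hcc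
    have hsq : c * c = 1 := by
      nth_rewrite 1 [hcc]
      exact inv_mul_cancel₀ hc
    exact mul_self_eq_one_iff.1 hsq
  · right; exact hT

include F hG in
theorem Frame.main [Finite G] (hK : ∀ n : ℕ, 0 < n → (Polynomial.X ^ n - 1 : Polynomial K).Splits) :
    (∀ g ∈ G, g ^ 2 = 1) ∧ Nat.card G ≤ 4 := by
  classical
  have hmul : ∀ a b : G, ∀ x, F.act G hG (a * b) x = F.act G hG a (F.act G hG b x) := fun a b x => by
    rw [map_mul]; rfl
  have one_T : F.act G hG 1 (T 1) = T 1 := by rw [map_one]; rfl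
  refine ⟨fun g hg => ?_, ?_⟩
  · have h : (⟨g, hg⟩ : G) * ⟨g, hg⟩ = 1 := by
      apply F.act_inj G hG
      rw [one_T, hmul]
      obtain ⟨c, hc, ⟨hT, hpm⟩ | hT⟩ := F.act_cases G hG hK ⟨g, hg⟩
      · rw [hT, map_mul, F.act_C, hT, ← mul_assoc, ← map_mul]
        rcases hpm with rfl | rfl <;> simp
      · rw [hT, map_mul, F.act_C, hom_T_pow _ (F.act_C G hG _) hc hT (-1), ← mul_assoc, ← map_mul,
          zpow_neg_one, mul_inv_cancel₀ hc, map_one, one_mul]
        rfl
    have := congrArg Subtype.val h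
    simpa [pow_two] using this
  · obtain ⟨c₀, hc₀⟩ : ∃ c₀ : Q.L, ∀ g : G, ∀ c, F.act G hG g (T 1) = LaurentPolynomial.C c * T (-1) →
        c = c₀ ∨ c = -c₀ := by
      by_cases h : ∃ g : G, ∃ c, c ≠ 0 ∧ F.act G hG g (T 1) = LaurentPolynomial.C c * T (-1)
      · obtain ⟨g₀, c₀, hc₀, hg₀⟩ := h
        refine ⟨c₀, fun g c hg => ?_⟩
        have hp : F.act G hG (g₀ * g) (T 1) = LaurentPolynomial.C (c * c₀⁻¹) * T 1 := by
          rw [hmul, hg, map_mul, F.act_C, hom_T_pow _ (F.act_C G hG g₀) hc₀ hg₀ (-1), ← mul_assoc,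
            ← map_mul, zpow_neg_one]
          rfl
        obtain ⟨d, hd, ⟨hT, hpm⟩ | hT⟩ := F.act_cases G hG hK (g₀ * g)
        · have := (C_mul_T_inj hd (hT.symm.trans hp)).1
          rcases hpm with rfl | rfl
          · left; field_simp at this; exact this.symm
          · right; field_simp at this; linear_combination -this
        · have := (C_mul_T_inj hd (hT.symm.trans hp)).2
          omega
      · refine ⟨0, fun g c hg => ?_⟩
        by_contra hne
        exact h ⟨g, c, fun h0 => hne (Or.inl h0), hg⟩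
    let S : Finset Q.L[T;T⁻¹] :=
      {T 1, LaurentPolynomial.C (-1) * T 1, LaurentPolynomial.C c₀ * T (-1),
        LaurentPolynomial.C (-c₀) * T (-1)}
    have hS : ∀ g : G, F.act G hG g (T 1) ∈ S := fun g => by
      simp only [S, Finset.mem_insert, Finset.mem_singleton]
      obtain ⟨c, hc, ⟨hT, rfl | rfl⟩ | hT⟩ := F.act_cases G hG hK g
      · left; rw [hT, map_one, one_mul]
      · right; left; exact hT
      · rcases hc₀ g c hT with rfl | rfl
        · right; right; left; exact hT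
        · right; right; right; exact hT
    let f : G → S := fun g => ⟨_, hS g⟩
    have hf : Function.Injective f := fun a b h => F.act_inj G hG (congrArg Subtype.val h)
    refine (Nat.card_le_card_of_injective f hf).trans ?_
    rw [Nat.card_eq_fintype_card, Fintype.card_coe]
    exact Finset.card_le_four

end Group

end Groth.Agent.PuncConic
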